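import Groth.Agent.NormChar.Basic
import Groth.Agent.NmpFinite.Basic

/-!
# Normalization commutes with smooth morphisms of integral schemes
-/

set_option autoImplicit false
set_option backward.isDefEq.respectTransparency false
universe u
open CategoryTheory CategoryTheory.Limits AlgebraicGeometry

namespace Groth.Agent.NormSmooth

theorem eq_genericPoint_of_specializes {X : Scheme.{u}} [IsIntegral X] {w : X} (h : w ⤳ genericPoint X) :
    w = genericPoint X :=
  (h.antisymm (genericPoint_specializes w)).eq

variable {X Y : Scheme.{u}} (f : X ⟶ Y) [Smooth f] [IsIntegral X] [IsIntegral Y]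
    [QuasiCompact (X.fromSpecStalk (genericPoint X))] [QuasiSeparated (X.fromSpecStalk (genericPoint X))]
    [QuasiCompact (Y.fromSpecStalk (genericPoint Y))] [QuasiSeparated (Y.fromSpecStalk (genericPoint Y))]

theorem exists_iso : ∃ e : pullback f (Curv2.normalizationι Y) ≅ Curv2.normalization X,
      e.hom ≫ Curv2.normalizationι X = pullback.fst f (Curv2.normalizationι Y) := by
  obtain ⟨hint, hnorm, hsurj, hgen, hres⟩ := S2351.result Y
  let νY := Curv2.normalizationι Y
  haveI : IsIntegralHom νY := by
    show IsIntegralHom (Y.fromSpecStalk (genericPoint Y)).fromNormalization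
    infer_instance
  let p := pullback.fst f νY
  let q := pullback.snd f νY
  let ηN := genericPoint (Curv2.normalization Y)
  have hfib : ∀ z : Curv2.normalization Y, νY z = genericPoint Y → z = ηN :=
    fun z hz => (AlgSpDec.eq_of_specializes_of_isIntegralHom νY (genericPoint_specializes z)
      (hgen.trans hz.symm)).symm
  have hw : ∀ w, f (p w) = νY (q w) := fun w => by
    rw [← Scheme.Hom.comp_apply, ← Scheme.Hom.comp_apply, pullback.condition]
  have hfX : f (genericPoint X) = genericPoint Y := by
    obtain ⟨w, hwη, hwY⟩ := Flat.generalizingMap f (genericPoint_specializes (f (genericPoint X)))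
    rw [eq_genericPoint_of_specializes hwη] at hwY
    exact hwY
  -- the fibre of `q` over the generic point is the generic fibre of `f`
  let φ := Spec.map (νY.residueFieldMap ηN)
  haveI : IsIso (νY.residueFieldMap ηN) := (ConcreteCategory.isIso_iff_bijective _).2 hres
  haveI : IsIso φ := inferInstance
  have hsq : φ ≫ Y.fromSpecResidueField (νY ηN) = (Curv2.normalization Y).fromSpecResidueField ηN ≫ νY :=
    Scheme.Hom.SpecMap_residueFieldMap_fromSpecResidueField _ _
  have big : IsPullback (q.fiberι ηN ≫ p) (q.fiberToSpecResidueField ηN) f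
      (φ ≫ Y.fromSpecResidueField (νY ηN)) := by
    rw [hsq]
    exact (IsPullback.of_hasPullback q ((Curv2.normalization Y).fromSpecResidueField ηN)).paste_horiz
      (IsPullback.of_hasPullback f νY)
  let j : q.fiber ηN ⟶ f.fiber (νY ηN) :=
    pullback.lift (q.fiberι ηN ≫ p) (q.fiberToSpecResidueField ηN ≫ φ) (by rw [big.w, Category.assoc])
  have small : IsPullback j (q.fiberToSpecResidueField ηN) (f.fiberToSpecResidueField (νY ηN)) φ :=
    IsPullback.of_right (by rwa [pullback.lift_fst]) (pullback.lift_snd _ _ _)
      (IsPullback.of_hasPullback f (Y.fromSpecResidueField (νY ηN)))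
  haveI : IsIso j := small.isIso_fst_of_isIso
  have hj : j ≫ f.fiberι (νY ηN) = q.fiberι ηN ≫ p := pullback.lift_fst _ _ _
  have hover : ∀ w, q w = ηN → ∃ a, q.fiberι ηN a = w := fun w hw' => by
    have : w ∈ Set.range (q.fiberι ηN) := by rw [Scheme.Hom.range_fiberι]; exact hw'
    exact this
  have hspec : ∀ w w', q w = ηN → q w' = ηN → p w ⤳ p w' → w ⤳ w' := by
    intro w w' h h' hs
    obtain ⟨a, rfl⟩ := hover w h
    obtain ⟨a', rfl⟩ := hover w' h'
    rw [← Scheme.Hom.comp_apply, ← Scheme.Hom.comp_apply, ← hj, Scheme.Hom.comp_apply,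
      Scheme.Hom.comp_apply, (f.fiberι (νY ηN)).isEmbedding.isInducing.specializes_iff,
      j.isOpenEmbedding.isInducing.specializes_iff] at hs
    exact hs.map (q.fiberι ηN).continuous
  obtain ⟨b, hb⟩ : genericPoint X ∈ Set.range (f.fiberι (νY ηN)) := by
    rw [Scheme.Hom.range_fiberι]
    show f (genericPoint X) = νY ηN
    rw [hfX]; exact hgen.symm
  obtain ⟨a, rfl⟩ := j.surjective b
  obtain ⟨z₀, hz₀⟩ : ∃ z₀, q.fiberι ηN a = z₀ := ⟨_, rfl⟩
  have hpz : p z₀ = genericPoint X := by
    rw [← hz₀, ← Scheme.Hom.comp_apply, ← hj, Scheme.Hom.comp_apply, hb]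
  have hqz : q z₀ = ηN := by
    have : z₀ ∈ Set.range (q.fiberι ηN) := ⟨a, hz₀⟩
    rwa [Scheme.Hom.range_fiberι] at this
  have hz₀gen : IsGenericPoint z₀ (Set.univ : Set (pullback f νY : Scheme.{u})) := by
    refine eq_top_iff.2 fun w _ => ?_
    obtain ⟨v, hv, hqv⟩ := Flat.generalizingMap q (genericPoint_specializes (q w))
    refine specializes_iff_mem_closure.1 ((hspec z₀ v hqz hqv ?_).trans hv)
    rw [hpz]; exact genericPoint_specializes _
  haveI hirr : IrreducibleSpace (pullback f νY : Scheme.{u}) :=
    (irreducibleSpace_def _).2 hz₀gen.isIrreducible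
  have hη : genericPoint (pullback f νY : Scheme.{u}) = z₀ :=
    (genericPoint_spec _).eq hz₀gen
  have hP : Pi1.IsNormalScheme (pullback f νY : Scheme.{u}) := NmpFinite.isNormalScheme_of_smooth hnorm q
  haveI : ∀ w : (pullback f νY : Scheme.{u}), IsDomain ((pullback f νY).presheaf.stalk w) := fun w => (hP w).1
  haveI : IsReduced (pullback f νY : Scheme.{u}) := isReduced_of_isReduced_stalk _
  haveI : IsIntegral (pullback f νY : Scheme.{u}) := isIntegral_of_irreducibleSpace_of_isReduced _
  have hiso : IsIso (p.stalkMap (genericPoint (pullback f νY : Scheme.{u}))) := by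
    rw [hη]
    subst hz₀
    have hK : IsField ((pullback f νY).presheaf.stalk (q.fiberι ηN a)) := by
      rw [← hη]; exact Field.toIsField (pullback f νY : Scheme.{u}).functionField
    have hX : IsField (X.presheaf.stalk (p (q.fiberι ηN a))) := by
      rw [hpz]; exact Field.toIsField X.functionField
    have hinj : Function.Injective ((q.fiberι ηN).stalkMap a).hom := by
      letI := hK.toField
      exact RingHom.injective _
    have hs : Function.Surjective ((j ≫ f.fiberι (νY ηN)).stalkMap a).hom := by
      rw [Scheme.Hom.stalkMap_comp]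
      exact (ConcreteCategory.bijective_of_isIso (j.stalkMap a)).2.comp
        ((f.fiberι (νY ηN)).stalkMap_surjective (j a))
    have hs' : Function.Surjective ((q.fiberι ηN ≫ p).stalkMap a).hom := by
      have key : ∀ m : q.fiber ηN ⟶ X, m = j ≫ f.fiberι (νY ηN) → Function.Surjective (m.stalkMap a).hom := by
        rintro m rfl; exact hs
      exact key _ hj.symm
    rw [Scheme.Hom.stalkMap_comp] at hs'
    refine (ConcreteCategory.isIso_iff_bijective _).2 ⟨?_, fun t => ?_⟩
    · letI := hX.toField
      exact RingHom.injective (p.stalkMap (q.fiberι ηN a)).hom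
    · obtain ⟨r, hr⟩ := hs' (((q.fiberι ηN).stalkMap a) t)
      exact ⟨r, hinj hr⟩
  haveI : IsIntegralHom p := MorphismProperty.pullback_fst _ _ ‹IsIntegralHom νY›
  refine (NormChar.normalization_iff X p).2 ⟨hP, inferInstance, hirr, ?_, hiso⟩
  ext w
  simp only [Set.mem_preimage, Set.mem_singleton_iff]
  constructor
  · intro hw'
    have hqw : q w = ηN := hfib _ (by rw [← hw, show p w = genericPoint X from hw', hfX])
    rw [hη]
    exact ((hspec w z₀ hqw hqz (by rw [hpz, show p w = genericPoint X from hw'])).antisymm
      (hspec z₀ w hqz hqw (by rw [hpz, show p w = genericPoint X from hw']))).eq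
  · rintro rfl
    rw [hη]; exact hpz

theorem existsUnique_iso :
    ∃! e : Curv2.normalization X ≅ pullback f (Curv2.normalizationι Y),
      e.hom ≫ pullback.fst f (Curv2.normalizationι Y) = Curv2.normalizationι X := by
  obtain ⟨e, he⟩ := exists_iso f
  obtain ⟨hint, hnorm, -, hgen, -⟩ := S2351.result X
  have hdom : ∀ z : Curv2.normalization X, closure {z} ∈ irreducibleComponents ↥(Curv2.normalization X) →
      (Curv2.normalizationι X).base z = genericPoint X := by
    intro z hz
    have h1 : closure {genericPoint (Curv2.normalization X)} ⊆ closure {z} :=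
      hz.2 isIrreducible_singleton.closure (closure_minimal
        (Set.singleton_subset_iff.2 (genericPoint_specializes z).mem_closure) isClosed_closure)
    rw [eq_genericPoint_of_specializes (specializes_iff_mem_closure.2 (h1 (subset_closure rfl)))]
    exact hgen
  refine ⟨e.symm, (Iso.inv_comp_eq e).2 he.symm, fun e' he' => ?_⟩
  obtain ⟨h, -, huniq⟩ := S9690.result X (Curv2.normalizationι X) hnorm hdom
  have h1 : e'.hom ≫ e.hom = h := huniq _ (by
    show (e'.hom ≫ e.hom) ≫ Curv2.normalizationι X = _
    rw [Category.assoc, he, he'])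
  have h2 : 𝟙 _ = h := huniq _ (Category.id_comp _)
  ext1
  rw [Iso.symm_hom, ← Category.comp_id e'.hom, ← e.hom_inv_id, ← Category.assoc, h1, ← h2, Category.id_comp]

end Groth.Agent.NormSmooth
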